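import Cfsg.Agent.H169.Co3.NN
import Cfsg.Agent.H314.Co3.Dim8

/-!
# S1920: `8 ∣ dim V` for a representation of `C_G(z)` with `z ↦ -1` (helper169)

`dvd_eight` : `s` has the eigenvalues `i`, `-i` with the same multiplicity (`r` inverts `s`), and `N0` acts on each
eigenspace with two commuting anticommuting pairs of involutions.
-/

set_option autoImplicit false

open Subgroup Module

namespace Cfsg.Agent.H169.Co3

open Cfsg.Agent.H314.Co3 (card_le_two_mul finrank_le_of_inj half)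
open Cfsg.Agent.H415.C3 (Kit)

variable {G : Type*} [Group G] {k V : Type*} [Field k] [AddCommGroup V] [Module k V] [FiniteDimensional k V]

/-- **`8 ∣ dim V`**, general form: `R ≥ N0`, `r ∈ R` anticommutes with `s`. -/
theorem dvd_eight_of [Finite G] {N0 R : Subgroup G} {z s r : G} (C : NN N0 z s) (h2 : (2 : k) ≠ 0) {i : k}
    (hi : i * i = -1) (hR : N0 ≤ R) (hrR : r ∈ R) (hrs : r * s = z * (s * r)) (P : ↥R →* (V →ₗ[k] V))
    (hz : z ∈ R) (hPz : ∀ v, P ⟨z, hz⟩ v = -v) : 8 ∣ finrank k V := by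
  obtain ⟨a, ha, b, hb, c, hc, d, hd, haa, hcc, hab, hcd, hac, had⟩ := C.exists_gens
  have hPm : ∀ {x y w : G} (hx : x ∈ R) (hy : y ∈ R) (hw : w ∈ R), x * y = w → ∀ v : V,
      P ⟨x, hx⟩ (P ⟨y, hy⟩ v) = P ⟨w, hw⟩ v := by
    intro x y w hx hy hw h v
    rw [← Module.End.mul_apply, ← map_mul]
    congr 2
    exact Subtype.ext h
  have hinj : ∀ x : ↥R, Function.Injective (P x) := by
    intro x u v huv
    have h3 : ∀ w : V, P x⁻¹ (P x w) = w := by
      intro w
      rw [← Module.End.mul_apply, ← map_mul, inv_mul_cancel, map_one, Module.End.one_apply]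
    rw [← h3 u, ← h3 v, huv]
  set Z := P ⟨z, hz⟩ with hZ
  set S := P ⟨s, hR C.sN⟩ with hS
  set A := P ⟨a, hR ha⟩ with hA
  set B := P ⟨b, hR hb⟩ with hB
  set Cc := P ⟨c, hR hc⟩ with hCc
  set D := P ⟨d, hR hd⟩ with hD
  set Rr := P ⟨r, hrR⟩ with hRr
  have oneR : (1 : G) ∈ R := one_mem R
  have P1 : ∀ v : V, P ⟨1, oneR⟩ v = v := by
    intro v
    have : P ⟨1, oneR⟩ = 1 := map_one P
    rw [this, Module.End.one_apply]
  have SS : ∀ v, S (S v) = -v := fun v => by rw [hPm _ _ hz C.s_sq v, hPz]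
  have AA : ∀ v, A (A v) = v := fun v => by rw [hPm _ _ oneR haa v, P1]
  have CC : ∀ v, Cc (Cc v) = v := fun v => by rw [hPm _ _ oneR hcc v, P1]
  have com : ∀ {x y : G} (hx : x ∈ R) (hy : y ∈ R), x * y = y * x → ∀ v : V,
      P ⟨x, hx⟩ (P ⟨y, hy⟩ v) = P ⟨y, hy⟩ (P ⟨x, hx⟩ v) := by
    intro x y hx hy h v
    rw [hPm hx hy (mul_mem hx hy) rfl v, hPm hy hx (mul_mem hx hy) h.symm v]
  have anti : ∀ {x y : G} (hx : x ∈ R) (hy : y ∈ R), x * y = z * (y * x) → ∀ v : V,
      P ⟨x, hx⟩ (P ⟨y, hy⟩ v) = -(P ⟨y, hy⟩ (P ⟨x, hx⟩ v)) := by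
    intro x y hx hy h v
    rw [hPm hx hy (mul_mem hx hy) rfl v, hPm hy hx (mul_mem hy hx) rfl v, ← hPz,
      hPm hz (mul_mem hy hx) (mul_mem hx hy) h.symm v]
  have AS : ∀ v, A (S v) = S (A v) := com _ _ (C.s_cen a ha)
  have BS : ∀ v, B (S v) = S (B v) := com _ _ (C.s_cen b hb)
  have CS : ∀ v, Cc (S v) = S (Cc v) := com _ _ (C.s_cen c hc)
  have DS : ∀ v, D (S v) = S (D v) := com _ _ (C.s_cen d hd)
  have AC : ∀ v, A (Cc v) = Cc (A v) := com _ _ hac
  have AD : ∀ v, A (D v) = D (A v) := com _ _ had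
  have AB : ∀ v, A (B v) = -(B (A v)) := anti _ _ hab
  have CD : ∀ v, Cc (D v) = -(D (Cc v)) := anti _ _ hcd
  have RS : ∀ v, Rr (S v) = -(S (Rr v)) := anti _ _ hrs
  -- eigenspaces of `S`
  have key : ∀ ε : k, ε * ε = -1 → 4 ∣ finrank k ↥(LinearMap.ker (S - ε • (1 : V →ₗ[k] V))) := by
    intro ε hε
    set U := LinearMap.ker (S - ε • (1 : V →ₗ[k] V)) with hU
    have mU : ∀ u, u ∈ U ↔ S u = ε • u := by
      intro u
      rw [hU, LinearMap.mem_ker, LinearMap.sub_apply, LinearMap.smul_apply, Module.End.one_apply, sub_eq_zero]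
    have inv : ∀ X : V →ₗ[k] V, (∀ v, X (S v) = S (X v)) → ∀ u ∈ U, X u ∈ U := by
      intro X hX u hu
      rw [mU] at hu ⊢
      rw [← hX, hu, map_smul]
    have h3 := half h2 A B (hinj _) U (inv A AS) (inv B BS) (fun u _ => AA u) (fun u hu => AB u)
    set U1 := U ⊓ LinearMap.ker (A - 1) with hU1
    have mU1 : ∀ u, u ∈ U1 ↔ u ∈ U ∧ A u = u := by
      intro u
      rw [hU1, Submodule.mem_inf]
      refine and_congr Iff.rfl ?_
      rw [LinearMap.mem_ker, LinearMap.sub_apply, Module.End.one_apply, sub_eq_zero]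
    have h4 := half h2 Cc D (hinj _) U1
      (fun u hu => by
        rw [mU1] at hu ⊢
        exact ⟨inv Cc CS u hu.1, by rw [AC, hu.2]⟩)
      (fun u hu => by
        rw [mU1] at hu ⊢
        exact ⟨inv D DS u hu.1, by rw [AD, hu.2]⟩)
      (fun u _ => CC u) (fun u hu => CD u)
    rw [h3, h4]
    exact ⟨_, by ring⟩
  have hi' : (-i) * (-i) = -1 := by rw [neg_mul_neg, hi]
  have hi0 : i ≠ 0 := by
    rintro rfl
    rw [mul_zero] at hi
    exact absurd hi (by simp)
  set U := LinearMap.ker (S - i • (1 : V →ₗ[k] V)) with hU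
  set W := LinearMap.ker (S - (-i) • (1 : V →ₗ[k] V)) with hW
  have mU : ∀ u, u ∈ U ↔ S u = i • u := by
    intro u
    rw [hU, LinearMap.mem_ker, LinearMap.sub_apply, LinearMap.smul_apply, Module.End.one_apply, sub_eq_zero]
  have mW : ∀ u, u ∈ W ↔ S u = (-i) • u := by
    intro u
    rw [hW, LinearMap.mem_ker, LinearMap.sub_apply, LinearMap.smul_apply, Module.End.one_apply, sub_eq_zero]
  have SR : ∀ u, S (Rr u) = -(Rr (S u)) := by
    intro u
    rw [RS, neg_neg]
  have RU : ∀ u ∈ U, Rr u ∈ W := by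
    intro u hu
    rw [mW, SR, (mU u).1 hu, map_smul, neg_smul]
  have RW : ∀ u ∈ W, Rr u ∈ U := by
    intro u hu
    rw [mU, SR, (mW u).1 hu, map_smul, neg_smul, neg_neg]
  have e1 : finrank k U = finrank k W :=
    le_antisymm (finrank_le_of_inj Rr (hinj _) RU) (finrank_le_of_inj Rr (hinj _) RW)
  have d4 := key i hi
  have hinf : U ⊓ W = ⊥ := by
    rw [eq_bot_iff]
    rintro u ⟨hu1, hu2⟩
    have h5 := (mU u).1 hu1
    have h6 := (mW u).1 hu2
    rw [h5] at h6
    have h7 : (2 : k) • (i • u) = 0 := by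
      rw [two_smul]
      nth_rewrite 1 [h6]
      rw [neg_smul, neg_add_cancel]
    have h8 := (smul_eq_zero.1 h7).resolve_left h2
    exact (smul_eq_zero.1 h8).resolve_left hi0
  have htop : U ⊔ W = ⊤ := by
    rw [eq_top_iff]
    intro v _
    have hv : v = (2 : k)⁻¹ • (v + (-i) • S v) + (2 : k)⁻¹ • (v - (-i) • S v) := by
      rw [← smul_add]
      have : v + (-i) • S v + (v - (-i) • S v) = (2 : k) • v := by rw [two_smul]; abel
      rw [this, smul_smul, inv_mul_cancel₀ h2, one_smul]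
    rw [hv]
    refine Submodule.add_mem_sup (U.smul_mem _ ?_) (W.smul_mem _ ?_)
    · rw [mU, map_add, map_smul, SS, smul_add, smul_smul, neg_smul i (-v), smul_neg, neg_neg,
        show i * -i = 1 by rw [mul_neg, hi, neg_neg], one_smul, add_comm]
    · rw [mW, map_sub, map_smul, SS, smul_sub, smul_smul, neg_smul i (-v), smul_neg, neg_neg, hi', neg_smul, neg_smul,
        one_smul]
      abel
  have hsum := Submodule.finrank_sup_add_finrank_inf_eq U W
  rw [hinf, finrank_bot, add_zero, ← e1, htop, finrank_top] at hsum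
  obtain ⟨m, hm⟩ := d4
  have hm' : finrank k U = 4 * m := hm
  exact ⟨m, by omega⟩

/-- **DIM8 for a kit.** -/
theorem dvd_eight [Finite G] {N0 A E : Subgroup G} {z s x r : G} {ψ : ↥A →* Equiv.Perm (Fin 6)}
    (K : Kit N0 A E z s x r ψ) (h2 : (2 : k) ≠ 0) {i : k} (hi : i * i = -1)
    (ρ : ↥(centralizer ({z} : Set G)) →* (V ≃ₗ[k] V)) (hz : z ∈ centralizer ({z} : Set G))
    (hρz : ∀ v, ρ ⟨z, hz⟩ v = -v) : 8 ∣ finrank k V := by
  have hrs : r * s = z * (s * r) := by rw [K.r_s, K.s_inv, mul_assoc]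
  have hsr : s * r = z * (r * s) := by rw [hrs, ← mul_assoc, K.z_sq, one_mul]
  have hR : N0 ≤ centralizer ({z} : Set G) := by
    intro n hn
    rw [mem_centralizer_singleton_iff]
    exact K.z_comm (K.N_A hn)
  have hrz : r * z = z * r := by
    rw [← K.s_sq]
    calc r * (s * s) = (r * s) * s := by group
      _ = (s⁻¹ * r) * s := by rw [K.r_s]
      _ = s⁻¹ * (r * s) := by rw [mul_assoc]
      _ = s⁻¹ * (s⁻¹ * r) := by rw [K.r_s]
      _ = s⁻¹ * s⁻¹ * r := by rw [mul_assoc]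
      _ = s * s * r := by
        have : s⁻¹ * s⁻¹ = s * s := by
          rw [← mul_inv_rev, K.s_sq, inv_eq_iff_mul_eq_one]; exact K.z_sq
        rw [this]
  have hrR : r ∈ centralizer ({z} : Set G) := by
    rw [mem_centralizer_singleton_iff]; exact hrz
  exact dvd_eight_of K.nn h2 hi hR hrR hrs ((LinearEquiv.automorphismGroup.toLinearMapMonoidHom (R := k) (M := V)).comp ρ)
    hz hρz

end Cfsg.Agent.H169.Co3
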