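import Cfsg.Agent.H169.Co3.ModGen
import Cfsg.Agent.H169.Co3.Dvd8
import Cfsg.Agent.H415.C3.KitOf
import Cfsg.Agent.H167.Co3.X0Gen
import Cfsg.Agent.Nodes.KindE

/-!
# S1920, case B: `m(z) = 64` in `E₇(q)`, `q` odd (helper169)
-/

set_option autoImplicit false

namespace Cfsg.Agent.H169.Co3

open Cfsg Cfsg.Lie Cfsg.Lie.ChevalleyDatum
open Cfsg.Agent.ChevalleyStructure Cfsg.Agent.ChevalleyStructure.CoxeterGeomTypes
open Cfsg.Agent.Nodes.RGDChev Cfsg.Agent.BpExc.TorChev Cfsg.Agent.BpExc.TorAll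
open Cfsg.Agent.GpExc.Field (emb emb_injective coe_emb)
open Cfsg.Agent.H13.Co3 (CB)
open Cfsg.Agent.H415.C3 (Kit exists_kit)
open Module Subgroup

/-- number of roots with odd value, E7 -/
theorem tabE7 : ∀ b : Fin 7 → Bool, b = (fun _ => false) ∨
    (Finset.univ.filter fun s : Fin chevE7.nroots => Odd (∑ i, if b i then vec chevE7 7 s i else 0)).card = 54 ∨
    (Finset.univ.filter fun s : Fin chevE7.nroots => Odd (∑ i, if b i then vec chevE7 7 s i else 0)).card = 64 ∨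
    (Finset.univ.filter fun s : Fin chevE7.nroots => Odd (∑ i, if b i then vec chevE7 7 s i else 0)).card = 70 := by
  decide +kernel

theorem finrank_Vm {D : ChevalleyDatum} {k : Type} [Field k] {G : Type*} [Group G] (φ : G →* ↥(D.group k)) (z : G) :
    finrank k ↥(Vm φ z) = Cfsg.Agent.H167.Co3.mL D (φ z) := by
  have h : Cfsg.Agent.H167.EX.rho D k (φ z) - (-1 : k) • (1 : End k (D.Idx → k)) =
      Matrix.toLin' (((φ z : ↥(D.group k)) : GL D.Idx k) : Matrix D.Idx D.Idx k) + 1 := by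
    refine LinearMap.ext fun v => ?_
    have h1 : (Cfsg.Agent.H167.EX.rho D k (φ z) - (-1 : k) • (1 : End k (D.Idx → k))) v =
        Cfsg.Agent.H167.EX.rho D k (φ z) v - (-1 : k) • v := rfl
    rw [h1, neg_smul, one_smul, sub_neg_eq_add]
    rfl
  unfold Vm Cfsg.Agent.H167.Co3.mL Cfsg.Agent.H167.Co3.mm
  rw [h]

/-- **`m(z) = 64`** -/
theorem e7_m64 {F : Type} [Field F] [Finite F] (h2F : (2 : F) ≠ 0) {G : Type*} [Group G] [Finite G]
    (φ₀ : G →* ↥(chevE7.group F)) (hφ₀ : Function.Injective φ₀) {P N0 : Subgroup G} {z s : G}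
    {ψ : ↥(normalizer (P : Set G)) →* Equiv.Perm (Fin 6)}
    (C : CB P N0 z s ψ) : Cfsg.Agent.H167.Co3.mL chevE7 (φ₀ z) = 64 := by
  obtain ⟨p, hpc⟩ := CharP.exists F
  have hpp : Fact p.Prime := ⟨(CharP.char_is_prime_or_zero F p).resolve_right (CharP.char_ne_zero_of_finite F p)⟩
  have hp2 : p ≠ 2 := by
    rintro rfl
    exact h2F (by exact_mod_cast CharP.cast_eq_zero F 2)
  set k := AlgebraicClosure F with hkdef
  have hch : CharP k p := charP_of_injective_algebraMap (algebraMap F k).injective p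
  have hk : HAlg p k := Cfsg.Agent.H944.RootVals.hAlg_closure p F
  have hpT : IsType chevE7 7 CoxeterMatrix.E₇ := Cfsg.Agent.Nodes.KindE.isType7
  have cne : ∀ n : ℕ, n.Prime → p ≠ n → (n : k) ≠ 0 := by
    intro n hn hpn h0
    exact hpn ((Nat.prime_dvd_prime_iff_eq Fact.out hn).1 ((CharP.cast_eq_zero_iff k p n).1 h0))
  have h2 : (2 : k) ≠ 0 := by exact_mod_cast cne 2 Nat.prime_two hp2
  let φ : G →* ↥(chevE7.group k) := (emb hpT.inList (algebraMap F k)).comp φ₀
  have hφ : Function.Injective φ := (emb_injective hpT.inList (algebraMap F k)).comp hφ₀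
  obtain ⟨A, E, x, r, ψ', K⟩ := exists_kit C
  have hz : z ∈ centralizer ({z} : Set G) := mem_centralizer_singleton_iff.2 rfl
  obtain ⟨i, hi⟩ := IsAlgClosed.exists_pow_nat_eq (-1 : k) (n := 2) (by norm_num)
  rw [pow_two] at hi
  have h8 := dvd_eight K h2 hi (Rm φ z) hz (Rm_z φ z hz)
  have hV : finrank k ↥(Vm φ z) = 64 := by
    obtain ⟨b, hb, hb'⟩ := exists_neg hpT p hk hp2 (z := φ z) (by rw [← map_mul, C.z_sq, map_one])
      (fun h => C.z_ne (hφ (by rw [h, map_one])))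
    have hb'' : finrank k ↥(Vm φ z) = _ := hb'
    rw [hb''] at h8 ⊢
    rcases tabE7 b with h | h | h | h
    · exact absurd h hb
    · rw [h] at h8
      exact absurd h8 (by norm_num)
    · exact h
    · rw [h] at h8
      exact absurd h8 (by norm_num)
  have hm := finrank_Vm φ z
  rw [hV] at hm
  have he : Cfsg.Agent.H167.Co3.mL chevE7 (φ z) = Cfsg.Agent.H167.Co3.mL chevE7 (φ₀ z) :=
    Cfsg.Agent.H167.Co3.mL_emb hpT (algebraMap F k) (φ₀ z)
  rw [← he, ← hm]

end Cfsg.Agent.H169.Co3
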