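import Cfsg.Agent.H13.Co3.Def

/-!
# S1920, case B: the configuration is invariant under isomorphisms (helper169)

`exists_map` : `e : G ≃* G'`, `CB P N0 z s ψ` in `G` gives `CB (P.map e) (N0.map e) (e z) (e s) ψ'` in `G'`.
-/

set_option autoImplicit false

open Subgroup

namespace Cfsg.Agent.H169.Co3

open Cfsg.Agent.H13.Co3 (CB)

variable {G G' : Type*} [Group G] [Group G']

theorem mem_norm_map (e : G ≃* G') (P : Subgroup G) {g : G} :
    e g ∈ normalizer ((P.map e.toMonoidHom : Subgroup G') : Set G') ↔ g ∈ normalizer (P : Set G) := by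
  rw [mem_normalizer_iff, mem_normalizer_iff]
  have key : ∀ x : G, e x ∈ P.map e.toMonoidHom ↔ x ∈ P := by
    intro x
    rw [Subgroup.mem_map]
    constructor
    · rintro ⟨y, hy, h⟩
      have : y = x := e.injective h
      rwa [← this]
    · intro h; exact ⟨x, h, rfl⟩
  constructor
  · intro h x
    have := h (e x)
    rw [key, ← map_mul, ← map_inv, ← map_mul, key] at this
    exact this
  · intro h y
    obtain ⟨x, rfl⟩ := e.surjective y
    rw [key, ← map_mul, ← map_inv, ← map_mul, key]
    exact h x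

/-- the isomorphism of the normalisers -/
def normMap (e : G ≃* G') (P : Subgroup G) :
    ↥(normalizer ((P.map e.toMonoidHom : Subgroup G') : Set G')) ≃* ↥(normalizer (P : Set G)) where
  toFun g := ⟨e.symm g, (mem_norm_map e P).1 (by rw [e.apply_symm_apply]; exact g.2)⟩
  invFun g := ⟨e g, (mem_norm_map e P).2 g.2⟩
  left_inv g := Subtype.ext (e.apply_symm_apply _)
  right_inv g := Subtype.ext (e.symm_apply_apply _)
  map_mul' g h := Subtype.ext (by
    show e.symm ((g * h : ↥(normalizer ((P.map e.toMonoidHom : Subgroup G') : Set G'))) : G') = e.symm g * e.symm h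
    rw [Subgroup.coe_mul, map_mul])

theorem exists_map (e : G ≃* G') {P N0 : Subgroup G} {z s : G} {ψ : ↥(normalizer (P : Set G)) →* Equiv.Perm (Fin 6)}
    (C : CB P N0 z s ψ) :
    CB (P.map e.toMonoidHom) (N0.map e.toMonoidHom) (e z) (e s) (ψ.comp (normMap e P).toMonoidHom) := by
  have mem : ∀ {H : Subgroup G} {x : G}, e x ∈ H.map e.toMonoidHom ↔ x ∈ H := by
    intro H x
    rw [Subgroup.mem_map]
    constructor
    · rintro ⟨y, hy, h⟩
      have : y = x := e.injective h
      rwa [← this]
    · intro h; exact ⟨x, h, rfl⟩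
  have hinj : Function.Injective e.toMonoidHom := e.injective
  have hpsi : ∀ (g : G) (h : e g ∈ normalizer ((P.map e.toMonoidHom : Subgroup G') : Set G')),
      (ψ.comp (normMap e P).toMonoidHom) ⟨e g, h⟩ = ψ ⟨g, (mem_norm_map e P).1 h⟩ := by
    intro g h
    show ψ _ = ψ _
    congr 1
    exact Subtype.ext (e.symm_apply_apply g)
  refine ⟨C.P_two.map _, mem.2 C.zP, Subgroup.map_mono C.PN, ?_, C.N_two.map _, ?_, mem.2 C.sN, ?_, ?_, ?_, ?_, ?_, ?_, ?_,
    ?_, ?_, ?_, ?_, ?_, ?_, ?_, ?_, ?_⟩
  · rintro _ ⟨n, hn, rfl⟩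
    exact (mem_norm_map e P).2 (C.NH hn)
  · rw [← C.card]
    exact (Nat.card_congr (N0.equivMapOfInjective _ hinj).toEquiv).symm
  · rw [← map_mul, C.s_sq]
  · rw [← map_mul, C.z_sq, map_one]
  · intro h
    exact C.z_ne (e.injective (by rw [h, map_one]))
  · rintro _ ⟨n, hn, rfl⟩
    show e n * e s = e s * e n
    rw [← map_mul, ← map_mul, C.s_cen n hn]
  · rintro _ ⟨n, hn, rfl⟩
    show e n * e n = 1 ∨ e n * e n = e z
    rcases C.sq n hn with h | h
    · left; rw [← map_mul, h, map_one]
    · right; rw [← map_mul, h]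
  · rintro _ ⟨n, hn, rfl⟩ _ ⟨m, hm, rfl⟩
    show e n * e m = e m * e n ∨ e n * e m = e z * (e m * e n)
    rcases C.comm n hn m hm with h | h
    · left; rw [← map_mul, ← map_mul, h]
    · right; rw [← map_mul, ← map_mul, ← map_mul, h]
  · rintro _ ⟨n, hn, rfl⟩ h
    have h1 : n ∈ zpowers s := by
      refine C.cen n hn fun m hm => ?_
      have := h (e m) (mem.2 hm)
      apply e.injective
      rw [map_mul, map_mul]
      exact this
    obtain ⟨j, hj⟩ := h1
    refine ⟨j, ?_⟩
    show e s ^ j = e n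
    rw [← map_zpow]
    exact congrArg e hj
  · intro h hh
    obtain ⟨g, rfl⟩ := e.surjective h
    rw [← map_mul, ← map_mul, C.z_cen g ((mem_norm_map e P).1 hh)]
  · intro π
    obtain ⟨g, hg⟩ := C.surj π
    exact ⟨(normMap e P).symm g, by
      show ψ ((normMap e P) ((normMap e P).symm g)) = π
      rw [MulEquiv.apply_symm_apply, hg]⟩
  · rintro _ ⟨n, hn, rfl⟩
    exact (hpsi n _).trans (C.psi_N n hn)
  · obtain ⟨m, hm, hc⟩ := C.ker_card
    refine ⟨m, hm, ?_⟩
    rw [← hc]
    refine Nat.card_congr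
      { toFun := fun g => ⟨normMap e P g.1, g.2⟩
        invFun := fun g => ⟨(normMap e P).symm g.1, by
          show ψ ((normMap e P) ((normMap e P).symm g.1)) = 1
          rw [MulEquiv.apply_symm_apply]; exact g.2⟩
        left_inv := fun g => Subtype.ext (MulEquiv.symm_apply_apply _ _)
        right_inv := fun g => Subtype.ext (MulEquiv.apply_symm_apply _ _) }
  · have hs := C.ker_solv
    let f : ↥(ψ.comp (normMap e P).toMonoidHom).ker →* ↥ψ.ker :=
      { toFun := fun g => ⟨normMap e P g.1, g.2⟩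
        map_one' := Subtype.ext (map_one _)
        map_mul' := fun g h => Subtype.ext (map_mul _ _ _) }
    have hf : Function.Injective f := fun g h hgh => by
      apply Subtype.ext
      apply (normMap e P).injective
      exact congrArg Subtype.val hgh
    exact solvable_of_solvable_injective hf
  · intro h hh
    obtain ⟨g, hg⟩ := e.surjective h.1
    have h1 : ψ ⟨g, (mem_norm_map e P).1 (by rw [hg]; exact h.2)⟩ = 1 := by
      rw [← hpsi g (by rw [hg]; exact h.2)]
      rw [← hh]
      congr 1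
      exact Subtype.ext hg
    obtain ⟨n, hn, o, ho, hodd⟩ := C.ker_eq _ h1
    refine ⟨e n, mem.2 hn, e o, ?_, ?_⟩
    · rw [← hg, ← map_mul]
      exact congrArg e ho
    · have : orderOf (e o) = orderOf o := orderOf_injective e.toMonoidHom hinj o
      rwa [this]
  · intro π hπ
    obtain ⟨h, h1, h2⟩ := C.even π hπ
    refine ⟨(normMap e P).symm h, ?_, ?_⟩
    · rintro _ ⟨n, hn, rfl⟩
      show e h * e n = e n * e h
      rw [← map_mul, ← map_mul, h1 n hn]
    · show ψ ((normMap e P) ((normMap e P).symm h)) = π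
      rw [MulEquiv.apply_symm_apply, h2]
  · intro π
    obtain ⟨h, h1, h2⟩ := C.frat π
    refine ⟨(normMap e P).symm h, (mem_norm_map e N0).2 h1, ?_⟩
    show ψ ((normMap e P) ((normMap e P).symm h)) = π
    rw [MulEquiv.apply_symm_apply, h2]
  · intro h hh
    obtain ⟨g, hg⟩ := e.surjective h.1
    have h2 : e g ∈ normalizer ((P.map e.toMonoidHom : Subgroup G') : Set G') := by rw [hg]; exact h.2
    have h3 : h = ⟨e g, h2⟩ := Subtype.ext hg.symm
    subst h3
    rw [hpsi g h2, C.inv_s ⟨g, _⟩ ((mem_norm_map e N0).1 hh)]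
    show g * s = s * g ↔ e g * e s = e s * e g
    rw [← map_mul, ← map_mul, e.injective.eq_iff]

end Cfsg.Agent.H169.Co3
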