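import Cfsg.Agent.H169.Co3.ConjE8
import Cfsg.Agent.H167.Co3.X0Gen

/-!
# S1920: `m(t8) = 128`, `m(t7) = 112` in `chevE8.group K` (helper169)
-/

set_option autoImplicit false

namespace Cfsg.Agent.H169.Co3

open CoxeterSystem Cfsg.Lie Cfsg.Agent.ChevalleyStructure Cfsg.Agent.ChevalleyStructure.CoxeterGeom
  Cfsg.Agent.ChevalleyStructure.CoxeterGeomTypes Cfsg.Agent.Tits.Roots
  Cfsg.Agent.Nodes.RGDChev Cfsg.Agent.KFacts.RgdChevCoord Cfsg.Agent.OddHalf.NI.ModelChev
  Cfsg.Agent.H557.SubTab Cfsg.Agent.H557.SubLink Cfsg.Agent.H557.SignTorus Cfsg.Agent.H557.InvClass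
  Cfsg.Agent.H557.ToralTypes Cfsg.Agent.H557.LinkE8 Cfsg.Agent.H557.OrbE8 Cfsg.Agent.H557.InvE8
  Cfsg.Agent.H557.Toral
open Cfsg.Agent.H167.Co3 (mL mL_TT ch_mul)
open Cfsg.Agent.BpExc.TowChev (LocFin)

theorem locFin_finite {F : Type} [Field F] [Finite F] : LocFin F := fun _ _ => ⟨⊤, inferInstance, fun _ _ => trivial⟩

section

variable {D : ChevalleyDatum} {l : ℕ} {M : CoxeterMatrix (Fin l)} (hp : IsType D l M) {F : Type} [Field F] [Finite F]
  {cm : List ℕ} (hcm : OkC (cartanOf D l) cm)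

include hcm in
/-- the dimension of the `(-1)`-eigenspace of a sign element -/
theorem mL_sg (p : ℕ) [Fact p.Prime] [CharP F p] (h2 : (2 : F) ≠ 0) {n : ℕ} {i₀ : Fin l}
    (hn : ∀ j : Fin l, par l (n &&& cm.getD j 0) = decide (j = i₀)) :
    mL D (th (K := F) hp (sg F l n)) = Nat.card {s : Fin D.nroots // Odd (vec D l s i₀)} := by
  have hT : th (K := F) hp (sg F l n) ∈ TT D F := th_mem hp _
  rw [mL_TT hp p locFin_finite h2 hT]
  refine Nat.card_congr (Equiv.subtypeEquivRight fun s => ?_)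
  have hr : IsRoot M.toCoxeterSystem hp.isCartan (vec D l s) := isRoot_vec hp M.toCoxeterSystem s.2
  have h1 := ch_sg hp M.toCoxeterSystem hcm hr h2 hn
  have hne : (1 : F) ≠ -1 := fun h => neg_one_ne h2 (Units.ext (by rw [Units.val_neg, Units.val_one]; exact h.symm))
  have hsq : ch hp (vec D l s) (th (K := F) hp (sg F l n)) * ch hp (vec D l s) (th (K := F) hp (sg F l n)) = 1 := by
    rw [← ch_mul hp p locFin_finite hT hT hr, ← map_mul, sg_mul_self, map_one]
    have h := ch_mul hp p locFin_finite (one_mem (TT D F)) (one_mem (TT D F)) hr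
    rw [mul_one] at h
    have h0 := ((Cfsg.Agent.BpExc.TowChev.coordsL (k := F) hp M.toCoxeterSystem locFin_finite p).coord _ hr).chi_ne_zero
      (one_mem (TT D F))
    exact (mul_eq_left₀ h0).1 h.symm
  rw [← Int.not_even_iff_odd, ← h1]
  rcases mul_self_eq_one_iff.1 hsq with h | h
  · rw [h]
    exact ⟨fun h' => absurd h' hne, fun h' => absurd rfl h'⟩
  · rw [h]
    exact ⟨fun _ h' => hne h'.symm, fun _ => rfl⟩

end

theorem tab8 : (Finset.univ.filter fun s : Fin chevE8.nroots => Odd (vec chevE8 8 s 0)).card = 128 := by decide +kernel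

theorem tab7 : (Finset.univ.filter fun s : Fin chevE8.nroots => Odd (vec chevE8 8 s 7)).card = 112 := by decide +kernel

theorem mL_t8 {F : Type} [Field F] [Finite F] (h2 : (2 : F) ≠ 0) : mL chevE8 (t8 F) = 128 := by
  obtain ⟨p, hpc⟩ := CharP.exists F
  have hpp : Fact p.Prime := ⟨(CharP.char_is_prime_or_zero F p).resolve_right (CharP.char_ne_zero_of_finite F p)⟩
  rw [mL_sg Cfsg.Agent.Nodes.KindE.isType8 hcm p h2 n0_TabD8, Nat.card_eq_fintype_card, Fintype.card_subtype]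
  exact tab8

theorem mL_t7 {F : Type} [Field F] [Finite F] (h2 : (2 : F) ≠ 0) : mL chevE8 (t7 F) = 112 := by
  obtain ⟨p, hpc⟩ := CharP.exists F
  have hpp : Fact p.Prime := ⟨(CharP.char_is_prime_or_zero F p).resolve_right (CharP.char_ne_zero_of_finite F p)⟩
  rw [mL_sg Cfsg.Agent.Nodes.KindE.isType8 hcm p h2 n0_TabE7A1, Nat.card_eq_fintype_card, Fintype.card_subtype]
  exact tab7

end Cfsg.Agent.H169.Co3
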