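import Cfsg.Agent.H415.C3.Kit
import Cfsg.Agent.H314.Co3.Abel

/-!
# S1920: the group `N0 = 4 ∘ 2^{1+4}` (helper169, after helper314)

`NN N0 z s` : the group-theoretic part of the configurations `CA`, `CB`, `Kit`; `NN.exists_gens` : two commuting
anticommuting pairs.
-/

set_option autoImplicit false

open Subgroup

namespace Cfsg.Agent.H169.Co3

open Cfsg.Agent.H314.Co3 (card_le_two_mul)
open Cfsg.Agent.H415.C3 (Kit)

variable {G : Type*} [Group G]

/-- `N0 = 4 ∘ 2^{1+4}` with centre `⟨s⟩` -/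
structure NN (N0 : Subgroup G) (z s : G) : Prop where
  card : Nat.card N0 = 64
  sN : s ∈ N0
  s_sq : s * s = z
  z_sq : z * z = 1
  z_ne : z ≠ 1
  s_cen : ∀ n ∈ N0, n * s = s * n
  sq : ∀ n ∈ N0, n * n = 1 ∨ n * n = z
  comm : ∀ n ∈ N0, ∀ m ∈ N0, n * m = m * n ∨ n * m = z * (m * n)
  cen : ∀ n ∈ N0, (∀ m ∈ N0, n * m = m * n) → n ∈ zpowers s

theorem _root_.Cfsg.Agent.H415.C3.Kit.nn {N0 A E : Subgroup G} {z s x r : G} {ψ : ↥A →* Equiv.Perm (Fin 6)}
    (K : Kit N0 A E z s x r ψ) : NN N0 z s :=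
  ⟨K.card, K.sN, K.s_sq, K.z_sq, K.z_ne, K.s_cen, K.sq, K.comm, K.cen⟩

namespace NN

variable {N0 : Subgroup G} {z s : G}

theorem zN (C : NN N0 z s) : z ∈ N0 := by
  rw [← C.s_sq]; exact mul_mem C.sN C.sN

theorem z_comm (C : NN N0 z s) {n : G} (hn : n ∈ N0) : n * z = z * n := by
  rw [← C.s_sq, ← mul_assoc, C.s_cen n hn, mul_assoc, C.s_cen n hn, ← mul_assoc]

theorem s_pow (C : NN N0 z s) : s ^ 4 = 1 := by
  have : s ^ 4 = (s * s) * (s * s) := by simp only [pow_succ, pow_zero, one_mul, mul_assoc]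
  rw [this, C.s_sq, C.z_sq]

theorem card_s [Finite G] (C : NN N0 z s) : Nat.card (zpowers s) ≤ 4 := by
  rw [Nat.card_zpowers]
  exact orderOf_le_of_pow_eq_one (by norm_num) C.s_pow

theorem sz_le (C : NN N0 z s) : zpowers s ≤ N0 := by
  rw [zpowers_le]; exact C.sN

/-- the commutator as an alternative -/
theorem comm_mul (C : NN N0 z s) {n a b : G} (hn : n ∈ N0) (ha : a ∈ N0) (hb : b ∈ N0)
    (h1 : n * a ≠ a * n) (h2 : n * b ≠ b * n) : n * (a⁻¹ * b) = a⁻¹ * b * n := by
  have e1 := (C.comm n hn a ha).resolve_left h1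
  have e2 := (C.comm n hn b hb).resolve_left h2
  have hz := C.z_comm ha
  have h3 : a⁻¹ * n = z * (n * a⁻¹) := by
    have h4 : n * a⁻¹ = z * (a⁻¹ * n) := by
      have h5 : a * (n * a⁻¹) = a * (z * (a⁻¹ * n)) := by
        calc a * (n * a⁻¹) = (z * z) * (a * n) * a⁻¹ := by rw [C.z_sq]; group
          _ = z * (z * (a * n)) * a⁻¹ := by group
          _ = z * (n * a) * a⁻¹ := by rw [← e1]
          _ = z * n := by group
          _ = (a * z) * a⁻¹ * n := by rw [hz]; group
          _ = a * (z * (a⁻¹ * n)) := by group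
      exact mul_left_cancel h5
    rw [h4, ← mul_assoc z z, C.z_sq, one_mul]
  have h6 : n * a⁻¹ = z * (a⁻¹ * n) := by
    rw [h3, ← mul_assoc z z, C.z_sq, one_mul]
  have hz' : a⁻¹ * z = z * a⁻¹ := by
    have := C.z_comm (inv_mem ha)
    exact this
  calc n * (a⁻¹ * b) = n * a⁻¹ * b := by group
    _ = z * (a⁻¹ * n) * b := by rw [h6]
    _ = z * a⁻¹ * (n * b) := by group
    _ = z * a⁻¹ * (z * (b * n)) := by rw [e2]
    _ = z * (a⁻¹ * z) * (b * n) := by group
    _ = z * (z * a⁻¹) * (b * n) := by rw [hz']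
    _ = (z * z) * (a⁻¹ * b * n) := by group
    _ = a⁻¹ * b * n := by rw [C.z_sq, one_mul]

/-- **abelian subgroups of `N0` have order at most 16** -/
theorem card_abel [Finite G] (C : NN N0 z s) {D : Subgroup G} (hD : D ≤ N0)
    (hc : ∀ x ∈ D, ∀ y ∈ D, x * y = y * x) : Nat.card D ≤ 16 := by
  by_contra hlt
  have h1 : Nat.card D ∣ 64 := by rw [← C.card]; exact Subgroup.card_dvd_of_le hD
  have h2 : Nat.card D = 32 ∨ Nat.card D = 64 := by
    have h3 : Nat.card D ≤ 64 := Nat.le_of_dvd (by norm_num) h1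
    obtain ⟨k, hk⟩ := h1
    have : k < 4 := by
      by_contra hk4
      have : 4 * 17 ≤ k * Nat.card D := Nat.mul_le_mul (by omega) (by omega)
      rw [mul_comm k] at this
      omega
    interval_cases k <;> omega
  rcases h2 with h2 | h2
  · -- index two
    have hlt2 : ¬ N0 ≤ D := fun h => by
      have h3 := Subgroup.card_le_of_le h
      rw [C.card, h2] at h3
      omega
    obtain ⟨n, hn, hnD⟩ := SetLike.not_le_iff_exists.1 hlt2
    have hidx : (D.subgroupOf N0).index = 2 := by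
      have h3 := Subgroup.card_mul_index (D.subgroupOf N0)
      rw [Nat.card_congr (Subgroup.subgroupOfEquivOfLe hD).toEquiv, h2, C.card] at h3
      omega
    have hmul : ∀ a ∈ N0, ∀ b ∈ N0, (a * b ∈ D ↔ (a ∈ D ↔ b ∈ D)) := by
      intro a ha b hb
      have := Subgroup.mul_mem_iff_of_index_two hidx (a := ⟨a, ha⟩) (b := ⟨b, hb⟩)
      simpa [Subgroup.mem_subgroupOf] using this
    let E : Subgroup G := D ⊓ centralizer {n}
    have hE : ∀ x, x ∈ E ↔ x ∈ D ∧ n * x = x * n := by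
      intro x
      simp only [E, mem_inf, mem_centralizer_singleton_iff]
      constructor
      · rintro ⟨h3, h4⟩; exact ⟨h3, h4.symm⟩
      · rintro ⟨h3, h4⟩; exact ⟨h3, h4.symm⟩
    have h4 := card_le_two_mul (D := D) (E := E) inf_le_left (by
      intro a ha b hb ha' hb'
      rw [hE] at ha' hb' ⊢
      refine ⟨mul_mem (inv_mem ha) hb, C.comm_mul hn (hD ha) (hD hb) (fun h => ha' ⟨ha, h⟩) (fun h => hb' ⟨hb, h⟩)⟩)
    have h5 : E ≤ zpowers s := by
      intro x hx
      rw [hE] at hx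
      refine C.cen x (hD hx.1) fun m hm => ?_
      by_cases hmD : m ∈ D
      · exact hc x hx.1 m hmD
      · have h6 : n⁻¹ * m ∈ D := by
          rw [hmul _ (inv_mem hn) _ hm, inv_mem_iff]
          exact ⟨fun h => absurd h hnD, fun h => absurd h hmD⟩
        have h7 := hc x hx.1 _ h6
        have h8 : x * n = n * x := hx.2.symm
        calc x * m = (x * n) * (n⁻¹ * m) := by group
          _ = n * (x * (n⁻¹ * m)) := by rw [h8]; group
          _ = n * ((n⁻¹ * m) * x) := by rw [h7]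
          _ = m * x := by group
    have h6 := (Subgroup.card_le_of_le h5).trans C.card_s
    omega
  · have h3 : D = N0 := Subgroup.eq_of_le_of_card_ge hD (by rw [C.card, h2])
    have h4 : N0 ≤ zpowers s := fun x hx => C.cen x hx fun m hm => hc x (by rw [h3]; exact hx) m (by rw [h3]; exact hm)
    have h5 := (Subgroup.card_le_of_le h4).trans C.card_s
    rw [C.card] at h5
    omega


/-- a coset of `⟨s⟩` contains an involution -/
theorem exists_sq (C : NN N0 z s) {n : G} (hn : n ∈ N0) :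
    ∃ m ∈ N0, m * m = 1 ∧ (m = n ∨ m = n * s) := by
  rcases C.sq n hn with h | h
  · exact ⟨n, hn, h, Or.inl rfl⟩
  · refine ⟨n * s, mul_mem hn C.sN, ?_, Or.inr rfl⟩
    calc n * s * (n * s) = n * (s * n) * s := by group
      _ = n * (n * s) * s := by rw [C.s_cen n hn]
      _ = (n * n) * (s * s) := by group
      _ = 1 := by rw [h, C.s_sq, C.z_sq]

theorem s_ne (C : NN N0 z s) {n : G} (_hn : n ∈ N0) {m : G} (hm : m ∈ N0) (h : n * m ≠ m * n) :
    (n * s) * m ≠ m * (n * s) := by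
  intro h1
  apply h
  have h2 : (n * s) * m = n * m * s := by rw [mul_assoc, ← C.s_cen m hm]; group
  rw [h2, ← mul_assoc] at h1
  exact mul_right_cancel h1

/-- generators -/
theorem exists_gens [Finite G] (C : NN N0 z s) : ∃ a ∈ N0, ∃ b ∈ N0, ∃ c ∈ N0, ∃ d ∈ N0, a * a = 1 ∧ c * c = 1 ∧
    a * b = z * (b * a) ∧ c * d = z * (d * c) ∧ a * c = c * a ∧ a * d = d * a := by
  -- `a`
  have h1 : ∃ a0 ∈ N0, ∃ b ∈ N0, a0 * b ≠ b * a0 := by
    by_contra hcon
    push Not at hcon
    have := C.card_abel le_rfl hcon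
    rw [C.card] at this
    omega
  obtain ⟨a0, ha0, b, hb, hab⟩ := h1
  obtain ⟨a, ha, haa, hae⟩ := C.exists_sq ha0
  have hab' : a * b ≠ b * a := by
    rcases hae with rfl | rfl
    · exact hab
    · exact C.s_ne ha0 hb hab
  -- the centraliser of `a`
  let E : Subgroup G := N0 ⊓ centralizer {a}
  have hE : ∀ x, x ∈ E ↔ x ∈ N0 ∧ a * x = x * a := by
    intro x
    simp only [E, mem_inf, mem_centralizer_singleton_iff]
    constructor
    · rintro ⟨h3, h4⟩; exact ⟨h3, h4.symm⟩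
    · rintro ⟨h3, h4⟩; exact ⟨h3, h4.symm⟩
  have h4 := card_le_two_mul (D := N0) (E := E) inf_le_left (by
    intro x hx y hy hx' hy'
    rw [hE] at hx' hy' ⊢
    exact ⟨mul_mem (inv_mem hx) hy, C.comm_mul ha hx hy (fun h => hx' ⟨hx, h⟩) (fun h => hy' ⟨hy, h⟩)⟩)
  rw [C.card] at h4
  have h5 : ∃ c0 ∈ E, ∃ d ∈ E, c0 * d ≠ d * c0 := by
    by_contra hcon
    push Not at hcon
    have := C.card_abel (D := E) inf_le_left hcon
    omega
  obtain ⟨c0, hc0, d, hd, hcd⟩ := h5
  rw [hE] at hc0 hd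
  obtain ⟨c, hc, hcc, hce⟩ := C.exists_sq hc0.1
  have hcd' : c * d ≠ d * c := by
    rcases hce with rfl | rfl
    · exact hcd
    · exact C.s_ne hc0.1 hd.1 hcd
  have hac : a * c = c * a := by
    rcases hce with rfl | rfl
    · exact hc0.2
    · calc a * (c0 * s) = (a * c0) * s := by group
        _ = c0 * (a * s) := by rw [hc0.2]; group
        _ = c0 * s * a := by rw [C.s_cen a ha]; group
  exact ⟨a, ha, b, hb, c, hc, d, hd.1, haa, hcc, (C.comm a ha b hb).resolve_left hab',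
    (C.comm c hc d hd.1).resolve_left hcd', hac, hd.2⟩


end NN

end Cfsg.Agent.H169.Co3
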