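import Cfsg.Agent.H169.Co3.MvE8
import Cfsg.Agent.H169.Co3.Map
import Cfsg.Agent.H738.C3.Char2Rows

/-!
# S1920, case B: the row `E₈(q)` (helper169)
-/

set_option autoImplicit false

universe u

namespace Cfsg.Agent.H169.Co3

open Cfsg Cfsg.Lie Cfsg.Lie.ChevalleyDatum
open Cfsg.Agent.H13.Co3 (CB)
open Cfsg.Agent.H167.Co3 (mL)
open Module Subgroup

theorem odd_card {F : Type} [Field F] [Finite F] (h2F : (2 : F) ≠ 0) : Odd (Nat.card F) := by
  have hfin : Fintype F := Fintype.ofFinite F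
  rw [← Nat.not_even_iff_odd, Nat.card_eq_fintype_card]
  intro h
  obtain ⟨n, hn⟩ := h
  apply h2F
  obtain ⟨p, hpc⟩ := CharP.exists F
  obtain ⟨m, hp, hq⟩ := FiniteField.card F p
  have h2p : 2 ∣ p ^ (m : ℕ) := by rw [← hq, hn]; exact ⟨n, by ring⟩
  have := (Nat.prime_dvd_prime_iff_eq Nat.prime_two hp).1 (Nat.prime_two.dvd_of_dvd_pow h2p)
  subst this
  exact_mod_cast CharP.cast_eq_zero F 2

/-- **the row `E₈(q)`, `q` odd** -/
theorem e8_odd_of {F : Type} [Field F] [Finite F] (h2F : (2 : F) ≠ 0)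
    (hfalse8 : ∀ (P N0 : Subgroup ↥(chevE8.group F)) (s : ↥(chevE8.group F))
      (ψ : ↥(normalizer (P : Set ↥(chevE8.group F))) →* Equiv.Perm (Fin 6)), CB P N0 (t8 F) s ψ → False)
    (hfalse7 : ∀ (P N0 : Subgroup ↥(chevE8.group F)) (s : ↥(chevE8.group F))
      (ψ : ↥(normalizer (P : Set ↥(chevE8.group F))) →* Equiv.Perm (Fin 6)), CB P N0 (t7 F) s ψ → False)
    {G : Type*} [Group G] [Finite G]
    (e : G ≃* ↥(chevE8.group F)) {P N0 : Subgroup G} {z s : G} {ψ : ↥(normalizer (P : Set G)) →* Equiv.Perm (Fin 6)}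
    (C : CB P N0 z s ψ) : False := by
  rcases conj_E8 (odd_card h2F) (u := e z) (by rw [← map_mul, C.z_sq, map_one])
    (fun h => C.z_ne (e.injective (by rw [h, map_one]))) with ⟨g, hg⟩ | ⟨g, hg⟩
  · let e' : G ≃* ↥(chevE8.group F) := e.trans (MulAut.conj g)
    have C' := exists_map e' C
    have hz : e' z = t8 F := hg
    rw [hz] at C'
    exact hfalse8 _ _ _ _ C'
  · let e' : G ≃* ↥(chevE8.group F) := e.trans (MulAut.conj g)
    have C' := exists_map e' C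
    have hz : e' z = t7 F := hg
    rw [hz] at C'
    exact hfalse7 _ _ _ _ C'

/-- **the row `E₈`** -/
theorem e8_of (hfalse8 : ∀ (F : Type) [Field F] [Finite F], (2 : F) ≠ 0 → ∀ (P N0 : Subgroup ↥(chevE8.group F))
      (s : ↥(chevE8.group F)) (ψ : ↥(normalizer (P : Set ↥(chevE8.group F))) →* Equiv.Perm (Fin 6)),
      CB P N0 (t8 F) s ψ → False)
    (hfalse7 : ∀ (F : Type) [Field F] [Finite F], (2 : F) ≠ 0 → ∀ (P N0 : Subgroup ↥(chevE8.group F))
      (s : ↥(chevE8.group F)) (ψ : ↥(normalizer (P : Set ↥(chevE8.group F))) →* Equiv.Perm (Fin 6)),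
      CB P N0 (t7 F) s ψ → False) :
    Cfsg.Agent.H527.Co3.Row.{u} @Lie.IsoE8 := by
  intro G _ _ _ h P N0 z s ψ C
  obtain ⟨F, hF, hF', ⟨e⟩⟩ := h
  by_cases h2 : (2 : F) = 0
  · have hch : CharP F 2 := by
      have := CharP.charP_iff_prime_eq_zero Nat.prime_two (R := F)
      exact this.2 (by exact_mod_cast h2)
    exact Cfsg.Agent.H738.C3.false_of_lieTwo C
      (Or.inr (Or.inr (Or.inr (Or.inr (Or.inr (Or.inr (Or.inl
        ⟨F, hF, hF', hch, Or.inr (Or.inr (Or.inr (Or.inr ⟨e⟩)))⟩)))))))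
  · exact e8_odd_of h2 (hfalse8 F h2) (hfalse7 F h2) e C

end Cfsg.Agent.H169.Co3
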