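import Cfsg.Agent.H169.Co3.DimE7
import Cfsg.Agent.H169.Co3.Map
import Cfsg.Agent.H627.Co3.Main
import Cfsg.Agent.H167.Co3.Conj7
import Cfsg.Agent.H169.Co3.RowE8
import Cfsg.Agent.H738.C3.Char2Rows

/-!
# S1920, case B: the row `E₇(q)` (helper169)
-/

set_option autoImplicit false

universe u

namespace Cfsg.Agent.H169.Co3

open Cfsg Cfsg.Lie Cfsg.Lie.ChevalleyDatum
open Cfsg.Agent.H13.Co3 (CB)
open Cfsg.Agent.H627.Co3 (E7I)
open Cfsg.Agent.H167.Co3 (mL)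
open Module Subgroup
open Cfsg.Agent.KFacts.RgdChevCoord Cfsg.Agent.OddHalf.NI.ModelChev

/-- **the row `E₇(q)`, `q` odd**, from the interface at one involution `z₀` -/
theorem e7_odd_of {F : Type} [Field F] [Finite F] (h2F : (2 : F) ≠ 0) {z₀ : ↥(chevE7.group F)}
    (hconj : ∀ z : ↥(chevE7.group F), z * z = 1 → mL chevE7 z = 64 → ∃ g, g * z * g⁻¹ = z₀)
    (hfalse : ∀ (P N0 : Subgroup ↥(chevE7.group F)) (s : ↥(chevE7.group F))
      (ψ : ↥(normalizer (P : Set ↥(chevE7.group F))) →* Equiv.Perm (Fin 6)), CB P N0 z₀ s ψ → False)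
    {G : Type*} [Group G] [Finite G]
    (e : G ≃* ↥(chevE7.group F)) {P N0 : Subgroup G} {z s : G} {ψ : ↥(normalizer (P : Set G)) →* Equiv.Perm (Fin 6)}
    (C : CB P N0 z s ψ) : False := by
  have hm := e7_m64 h2F e.toMonoidHom e.injective C
  obtain ⟨g, hg⟩ := hconj (e z) (by rw [← map_mul, C.z_sq, map_one]) hm
  let e' : G ≃* ↥(chevE7.group F) := e.trans (MulAut.conj g)
  have C' := exists_map e' C
  have hz : e' z = z₀ := hg
  rw [hz] at C'
  exact hfalse _ _ _ _ C'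

/-- **the row `E₇`** -/
theorem e7_of (z₀ : ∀ (F : Type) [Field F], ↥(chevE7.group F))
    (hconj : ∀ (F : Type) [Field F] [Finite F], (2 : F) ≠ 0 → ∀ z : ↥(chevE7.group F), z * z = 1 → mL chevE7 z = 64 →
      ∃ g, g * z * g⁻¹ = z₀ F)
    (hfalse : ∀ (F : Type) [Field F] [Finite F], (2 : F) ≠ 0 → ∀ (P N0 : Subgroup ↥(chevE7.group F)) (s : ↥(chevE7.group F))
      (ψ : ↥(normalizer (P : Set ↥(chevE7.group F))) →* Equiv.Perm (Fin 6)), CB P N0 (z₀ F) s ψ → False) :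
    Cfsg.Agent.H527.Co3.Row.{u} @Lie.IsoE7 := by
  intro G _ _ _ h P N0 z s ψ C
  obtain ⟨F, hF, hF', ⟨e⟩⟩ := h
  by_cases h2 : (2 : F) = 0
  · have hch : CharP F 2 := by
      have := CharP.charP_iff_prime_eq_zero Nat.prime_two (R := F)
      exact this.2 (by exact_mod_cast h2)
    exact Cfsg.Agent.H738.C3.false_of_lieTwo C
      (Or.inr (Or.inr (Or.inr (Or.inr (Or.inr (Or.inr (Or.inl
        ⟨F, hF, hF', hch, Or.inr (Or.inr (Or.inr (Or.inl ⟨e⟩)))⟩)))))))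
  · exact e7_odd_of h2 (hconj F h2) (hfalse F h2) e C

/-- **the row `E₇`** from the interface at `z7` -/
theorem e7_of_int (hI : ∀ (F : Type) [Field F] [Finite F], (2 : F) ≠ 0 →
      ∃ (V : Type) (_ : AddCommGroup V) (_ : Module F V) (B : LinearMap.BilinForm F V),
        Nonempty (E7I (th Cfsg.Agent.Nodes.KindE.isType7 (Cfsg.Agent.H557.SignTorus.sg F 7 84)) F B)) :
    Cfsg.Agent.H527.Co3.Row.{u} @Lie.IsoE7 := by
  refine e7_of (fun F _ => th Cfsg.Agent.Nodes.KindE.isType7 (Cfsg.Agent.H557.SignTorus.sg F 7 84)) ?_ ?_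
  · intro F _ _ h2 z hz hm
    have hfin : Fintype F := Fintype.ofFinite F
    exact Cfsg.Agent.H167.Co3.conj_z7 (by rw [← Nat.card_eq_fintype_card]; exact odd_card h2) hz hm
  · intro F _ _ h2 P N0 s ψ C
    obtain ⟨V, _, _, B, ⟨I⟩⟩ := hI F h2
    exact Cfsg.Agent.H627.Co3.e7_false I C

end Cfsg.Agent.H169.Co3
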