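import Cfsg.Agent.H169.Co3.ModGen
import Cfsg.Agent.H169.Co3.Dvd8
import Cfsg.Agent.H858.Co3.Eig
import Cfsg.Agent.H415.C3.KitOf
import Cfsg.Agent.Nodes.KindF
import Cfsg.Agent.H738.C3.Char2Rows

/-!
# S1920, case B: the row `F₄(q)`, `q` odd (helper169)
-/

set_option autoImplicit false

universe u

namespace Cfsg.Agent.H169.Co3

open Cfsg Cfsg.Lie Cfsg.Lie.ChevalleyDatum
open Cfsg.Agent.ChevalleyStructure Cfsg.Agent.ChevalleyStructure.CoxeterGeomTypes
open Cfsg.Agent.Nodes.RGDChev Cfsg.Agent.BpExc.TorChev Cfsg.Agent.BpExc.TorAll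
open Cfsg.Agent.GpExc.Field (emb emb_injective)
open Cfsg.Agent.H13.Co3 (CB)
open Cfsg.Agent.H415.C3 (Kit exists_kit)
open Module Subgroup

theorem tabF4 : ∀ b : Fin 4 → Bool, b = (fun _ => false) ∨
    (Finset.univ.filter fun s : Fin chevF4.nroots => Odd (∑ i, if b i then vec chevF4 4 s i else 0)).card = 16 ∨
    (Finset.univ.filter fun s : Fin chevF4.nroots => Odd (∑ i, if b i then vec chevF4 4 s i else 0)).card = 28 := by
  decide +kernel

/-- **the row `F₄(q)`, `q` odd** -/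
theorem f4_odd {F : Type} [Field F] [Finite F] (h2F : (2 : F) ≠ 0) {G : Type*} [Group G] [Finite G]
    (e : G ≃* ↥(chevF4.group F)) {P N0 : Subgroup G} {z s : G} {ψ : ↥(normalizer (P : Set G)) →* Equiv.Perm (Fin 6)}
    (C : CB P N0 z s ψ) : False := by
  obtain ⟨p, hpc⟩ := CharP.exists F
  have hpp : Fact p.Prime := ⟨(CharP.char_is_prime_or_zero F p).resolve_right (CharP.char_ne_zero_of_finite F p)⟩
  have hp2 : p ≠ 2 := by
    rintro rfl
    exact h2F (by exact_mod_cast CharP.cast_eq_zero F 2)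
  set k := AlgebraicClosure F with hkdef
  have hch : CharP k p := charP_of_injective_algebraMap (algebraMap F k).injective p
  have hk : HAlg p k := Cfsg.Agent.H944.RootVals.hAlg_closure p F
  have hpT : IsType chevF4 4 CoxeterMatrix.F₄ := Cfsg.Agent.Nodes.KindF.isType
  have cne : ∀ n : ℕ, n.Prime → p ≠ n → (n : k) ≠ 0 := by
    intro n hn hpn h0
    exact hpn ((Nat.prime_dvd_prime_iff_eq Fact.out hn).1 ((CharP.cast_eq_zero_iff k p n).1 h0))
  have h2 : (2 : k) ≠ 0 := by exact_mod_cast cne 2 Nat.prime_two hp2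
  let φ : G →* ↥(chevF4.group k) := (emb hpT.inList (algebraMap F k)).comp e.toMonoidHom
  have hφ : Function.Injective φ := (emb_injective hpT.inList (algebraMap F k)).comp e.injective
  obtain ⟨A, E, x, r, ψ', K⟩ := exists_kit C
  have hz : z ∈ centralizer ({z} : Set G) := mem_centralizer_singleton_iff.2 rfl
  obtain ⟨i, hi⟩ := IsAlgClosed.exists_pow_nat_eq (-1 : k) (n := 2) (by norm_num)
  rw [pow_two] at hi
  have h8 := dvd_eight K h2 hi (Rm φ z) hz (Rm_z φ z hz)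
  have hL : Cfsg.Agent.H512.LinFour.IdealF.Lac chevF4 := Cfsg.Agent.H512.LinFour.IdealF.lac_F4
  have hV : finrank k ↥(Vm φ z) = 16 := by
    obtain ⟨b, hb, hb'⟩ := exists_neg hpT p hk hp2 (z := φ z) (by rw [← map_mul, C.z_sq, map_one])
      (fun h => C.z_ne (hφ (by rw [h, map_one])))
    have hb'' : finrank k ↥(Vm φ z) = _ := hb'
    rw [hb''] at h8 ⊢
    rcases tabF4 b with h | h | h
    · exact absurd h hb
    · exact h
    · rw [h] at h8
      exact absurd h8 (by norm_num)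
  have hE : ∀ e (he : e ∈ centralizer ({z} : Set G)), e ∈ E → Rm φ z ⟨e, he⟩ = 1 → e = 1 := by
    intro e he _ h
    exact congrArg Subtype.val (Rm_inj φ z hL h2 hφ C.z_sq C.z_ne h)
  by_cases hp3 : p = 3
  · have h5 : (5 : k) ≠ 0 := by exact_mod_cast cne 5 Nat.prime_five (by rw [hp3]; norm_num)
    exact Cfsg.Agent.H858.Co3.eig_ne5 K (Rm φ z) hV h2 h5 hz (Rm_z φ z hz) hE (-1) (by norm_num)
      (fun g hg hg' l hl => Rm_inv hpT p hk φ z h2 g hg hg' l hl)
  · have h3 : (3 : k) ≠ 0 := by exact_mod_cast cne 3 Nat.prime_three hp3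
    exact Cfsg.Agent.H858.Co3.eig_ne3 K (Rm φ z) hV h2 h3 hz (Rm_z φ z hz) hE

/-- **the row `F₄`** -/
theorem f4 : Cfsg.Agent.H527.Co3.Row.{u} @Lie.IsoF4 := by
  intro G _ _ _ h P N0 z s ψ C
  obtain ⟨F, hF, hF', ⟨e⟩⟩ := h
  by_cases h2 : (2 : F) = 0
  · have hch : CharP F 2 := by
      have := CharP.charP_iff_prime_eq_zero Nat.prime_two (R := F)
      exact this.2 (by exact_mod_cast h2)
    exact Cfsg.Agent.H738.C3.false_of_lieTwo C
      (Or.inr (Or.inr (Or.inr (Or.inr (Or.inr (Or.inr (Or.inl ⟨F, hF, hF', hch, Or.inr (Or.inl ⟨e⟩)⟩)))))))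
  · exact f4_odd h2 e C

end Cfsg.Agent.H169.Co3
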